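import Groth.Agent.EssDimBCLib.Basic
import Groth.Prelude.Def_FlatFun
import Groth.Prelude.Def_Dual3
import Mathlib

/-!
# Transcendence degrees of residue fields under base change
-/

set_option autoImplicit false

universe u

open CategoryTheory AlgebraicGeometry TensorProduct Limits

noncomputable section

namespace FlatDimLib

section alg

variable {k K L C E : Type u} [Field k] [Field K] [Field L] [CommRing C] [Field E] [Algebra k K] [Algebra k L]
  [Algebra k C] [Algebra K C] [Algebra L C] [IsScalarTower k K C] [IsScalarTower k L C]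
  [Algebra.IsPushout k L K C] [Algebra C E] [Algebra L E] [IsScalarTower L C E]

theorem trdeg_le_of_pushout (hfrac : ∀ e : E, ∃ a b : C, e = algebraMap C E a / algebraMap C E b) :
    Algebra.trdeg L E ≤ Algebra.trdeg k K := by
  letI : Algebra k E := ((algebraMap L E).comp (algebraMap k L)).toAlgebra
  haveI : IsScalarTower k L E := IsScalarTower.of_algebraMap_eq fun _ => rfl
  have hkE : ∀ r, algebraMap C E (algebraMap k C r) = algebraMap k E r := fun r => by
    rw [IsScalarTower.algebraMap_apply k L C, ← IsScalarTower.algebraMap_apply L C E]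
    rfl
  let j : K →ₐ[k] E :=
    { toRingHom := (algebraMap C E).comp (algebraMap K C)
      commutes' := fun r => by
        show algebraMap C E (algebraMap K C (algebraMap k K r)) = algebraMap k E r
        rw [← IsScalarTower.algebraMap_apply k K C]
        exact hkE r }
  have hj : (IntermediateField.adjoin L (j.fieldRange : Set E)) = ⊤ := by
    refine eq_top_iff.2 fun e _ => ?_
    have hC : ∀ c : C, algebraMap C E c ∈ IntermediateField.adjoin L (j.fieldRange : Set E) := by
      intro c
      obtain ⟨z, rfl⟩ := (Algebra.IsPushout.equiv k L K C).surjective c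
      induction z using TensorProduct.induction_on with
      | zero => simp only [map_zero]; exact zero_mem _
      | add a b ha hb => simp only [map_add]; exact add_mem ha hb
      | tmul a b =>
        rw [Algebra.IsPushout.equiv_tmul, map_mul]
        refine mul_mem ?_ ?_
        · rw [← IsScalarTower.algebraMap_apply]
          exact IntermediateField.algebraMap_mem _ a
        · exact IntermediateField.subset_adjoin _ _ ⟨b, rfl⟩
    obtain ⟨a, b, rfl⟩ := hfrac e
    exact div_mem (hC a) (hC b)
  have h := Groth.Agent.EssDimBCLib.trdeg_compositum (k := k) (K := L) (L := E) j.fieldRange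
  rw [hj] at h
  have h1 : Algebra.trdeg L (⊤ : IntermediateField L E) = Algebra.trdeg L E :=
    IntermediateField.topEquiv.trdeg_eq
  have h2 : Algebra.trdeg k j.fieldRange = Algebra.trdeg k K :=
    (AlgEquiv.ofInjectiveField j).trdeg_eq.symm
  rw [h1, h2] at h
  exact h

theorem le_trdeg_of_minimal (hmin : RingHom.ker (algebraMap C E) ∈ minimalPrimes C) :
    Algebra.trdeg k K ≤ Algebra.trdeg L E := by
  obtain ⟨s, hs⟩ := exists_isTranscendenceBasis k K
  let x : s → E := fun i => algebraMap C E (algebraMap K C i)
  suffices hx : AlgebraicIndependent L x by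
    rw [← hs.cardinalMk_eq_trdeg]
    exact hx.cardinalMk_le_trdeg
  letI : Algebra (MvPolynomial s k) K := (MvPolynomial.aeval (fun i : s => (i : K))).toRingHom.toAlgebra
  haveI : IsScalarTower k (MvPolynomial s k) K := IsScalarTower.of_algebraMap_eq fun r => by
    show _ = MvPolynomial.aeval _ (MvPolynomial.C r)
    rw [MvPolynomial.aeval_C]
  have hinj : Function.Injective (algebraMap (MvPolynomial s k) K) := hs.1
  haveI : Module.Flat (MvPolynomial s k) K := by
    haveI : FaithfulSMul (MvPolynomial s k) K := (faithfulSMul_iff_algebraMap_injective _ _).2 hinj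
    letI : Algebra (FractionRing (MvPolynomial s k)) K := FractionRing.liftAlgebra _ K
    exact Module.Flat.trans _ (FractionRing (MvPolynomial s k)) K
  letI : Algebra (MvPolynomial s L) C :=
    (MvPolynomial.aeval (R := L) (fun i : s => algebraMap K C i)).toRingHom.toAlgebra
  haveI : IsScalarTower L (MvPolynomial s L) C := IsScalarTower.of_algebraMap_eq fun r => by
    show _ = MvPolynomial.aeval _ (MvPolynomial.C r)
    rw [MvPolynomial.aeval_C]
  letI : Algebra (MvPolynomial s k) (MvPolynomial s L) := MvPolynomial.algebraMvPolynomial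
  letI : Algebra (MvPolynomial s k) C := ((algebraMap K C).comp (algebraMap (MvPolynomial s k) K)).toAlgebra
  haveI : IsScalarTower (MvPolynomial s k) K C := IsScalarTower.of_algebraMap_eq fun _ => rfl
  haveI : IsScalarTower (MvPolynomial s k) (MvPolynomial s L) C := by
    refine IsScalarTower.of_algebraMap_eq' (MvPolynomial.ringHom_ext (fun r => ?_) fun i => ?_)
    · show algebraMap K C (MvPolynomial.aeval _ (MvPolynomial.C r)) =
        MvPolynomial.aeval _ (MvPolynomial.map (algebraMap k L) (MvPolynomial.C r))
      rw [MvPolynomial.map_C, MvPolynomial.aeval_C, MvPolynomial.aeval_C, ← IsScalarTower.algebraMap_apply,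
        ← IsScalarTower.algebraMap_apply]
    · show algebraMap K C (MvPolynomial.aeval _ (MvPolynomial.X i)) =
        MvPolynomial.aeval _ (MvPolynomial.map (algebraMap k L) (MvPolynomial.X i))
      rw [MvPolynomial.map_X, MvPolynomial.aeval_X, MvPolynomial.aeval_X]
  haveI : IsScalarTower k (MvPolynomial s k) C := IsScalarTower.of_algebraMap_eq fun r => by
    show algebraMap k C r = algebraMap K C (algebraMap (MvPolynomial s k) K (algebraMap k _ r))
    rw [← IsScalarTower.algebraMap_apply k (MvPolynomial s k) K, ← IsScalarTower.algebraMap_apply]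
  haveI : IsScalarTower k (MvPolynomial s k) (MvPolynomial s L) := IsScalarTower.of_algebraMap_eq fun r => by
    show MvPolynomial.C (algebraMap k L r) = MvPolynomial.map (algebraMap k L) (MvPolynomial.C r)
    rw [MvPolynomial.map_C]
  haveI : Algebra.IsPushout k (MvPolynomial s k) L (MvPolynomial s L) := inferInstance
  haveI : IsScalarTower k (MvPolynomial s L) C := IsScalarTower.of_algebraMap_eq fun r => by
    rw [IsScalarTower.algebraMap_apply k L C, IsScalarTower.algebraMap_apply L (MvPolynomial s L) C,
      ← IsScalarTower.algebraMap_apply k L (MvPolynomial s L)]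
  haveI : Algebra.IsPushout (MvPolynomial s k) K (MvPolynomial s L) C :=
    (Algebra.IsPushout.comp_iff k (MvPolynomial s k) L (MvPolynomial s L)).mp
      (Algebra.IsPushout.symm inferInstance)
  haveI : Module.Flat (MvPolynomial s L) C := by
    haveI : Algebra.IsPushout (MvPolynomial s k) (MvPolynomial s L) K C := Algebra.IsPushout.symm inferInstance
    exact Module.Flat.isBaseChange (MvPolynomial s k) (MvPolynomial s L) K C Algebra.IsPushout.out
  refine fun p q h => ?_
  by_contra hne
  have hp : p - q ≠ 0 := sub_ne_zero.2 hne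
  have hker : algebraMap (MvPolynomial s L) C (p - q) ∈ RingHom.ker (algebraMap C E) := by
    rw [RingHom.mem_ker]
    have he : ∀ r : MvPolynomial s L, algebraMap C E (algebraMap (MvPolynomial s L) C r) =
        MvPolynomial.aeval x r := fun r => by
      have := MvPolynomial.comp_aeval (fun i : s => algebraMap K C i) (IsScalarTower.toAlgHom L C E)
      exact AlgHom.congr_fun this r
    rw [he, map_sub, sub_eq_zero]
    exact h
  have hreg : algebraMap (MvPolynomial s L) C (p - q) ∈ nonZeroDivisors C := by
    have : IsSMulRegular C (p - q) :=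
      (Module.Flat.isSMulRegular_of_isRegular (M := C) (IsRegular.of_ne_zero hp))
    rw [mem_nonZeroDivisors_iff_right]
    intro c hc
    apply this
    simp only [Algebra.smul_def, smul_zero, mul_zero]
    rw [mul_comm]; exact hc
  exact Set.disjoint_left.1 (Ideal.disjoint_nonZeroDivisors_of_mem_minimalPrimes hmin) hker hreg

end alg

section scheme

variable {X Y S : Scheme.{u}} (f : X ⟶ S) (g : Y ⟶ S)

open Scheme.Pullback

theorem exists_eq_div {A : CommRingCat.{u}} {Z : Scheme.{u}} {t : Z} (φ : A ⟶ Z.residueField t)
    [SurjectiveOnStalks (Spec.map φ)] (e : Z.residueField t) : ∃ a b : A, e = φ a / φ b := by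
  have h : φ.hom.SurjectiveOnStalks := (HasRingHomProperty.Spec_iff (P := @SurjectiveOnStalks)).1 inferInstance
  obtain ⟨x, r, c, hc, hr, he⟩ := RingHom.surjectiveOnStalks_iff_forall_ideal.1 h ⊥ bot_ne_top e
  have hc' : c ≠ 0 := by simpa using hc
  have hr' : φ r ≠ 0 := by simpa using hr
  refine ⟨x, r, (eq_div_iff hr').2 ?_⟩
  rw [mul_comm]
  exact mul_left_cancel₀ hc' (by rw [← mul_assoc]; exact he)

theorem trdeg_residueFieldCongr (x : X) {s : S} (hx : f x = s) :
    @Algebra.trdeg (S.residueField s) (X.residueField x) _ _
      ((S.residueFieldCongr hx).inv ≫ f.residueFieldMap x).hom.toAlgebra = Dual3.resTrdeg f x := by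
  subst hx
  simp only [Scheme.residueFieldCongr_refl, Iso.refl_inv, Category.id_comp]
  rfl

/-- The two inequalities at a point, in terms of the kernel of the tensor evaluation. -/
theorem resTrdeg_snd_point (t : ↑(pullback f g)) :
    Dual3.resTrdeg (pullback.snd f g) t ≤ Dual3.resTrdeg f (pullback.fst f g t) ∧
      ((SpecOfPoint t).asIdeal ∈ minimalPrimes (Triplet.ofPoint t).tensor →
        Dual3.resTrdeg f (pullback.fst f g t) ≤ Dual3.resTrdeg (pullback.snd f g) t) := by
  let T := Triplet.ofPoint t
  let φ := ofPointTensor t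
  haveI : SurjectiveOnStalks (Spec.map φ ≫ T.SpecTensorTo) := by
    rw [ofPointTensor_SpecTensorTo]
    infer_instance
  haveI : SurjectiveOnStalks (Spec.map φ) := SurjectiveOnStalks.of_comp _ T.SpecTensorTo
  let a := (S.residueFieldCongr T.hx).inv ≫ f.residueFieldMap T.x
  let b := (S.residueFieldCongr T.hy).inv ≫ g.residueFieldMap T.y
  have hK : @Algebra.trdeg (S.residueField T.s) (X.residueField T.x) _ _ a.hom.toAlgebra =
      Dual3.resTrdeg f (pullback.fst f g t) := trdeg_residueFieldCongr f T.x T.hx
  letI : Algebra (S.residueField T.s) (X.residueField T.x) := a.hom.toAlgebra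
  letI : Algebra (S.residueField T.s) (Y.residueField T.y) := b.hom.toAlgebra
  letI : Algebra (X.residueField T.x) T.tensor := T.tensorInl.hom.toAlgebra
  letI : Algebra (Y.residueField T.y) T.tensor := T.tensorInr.hom.toAlgebra
  letI : Algebra (S.residueField T.s) T.tensor := (b ≫ T.tensorInr).hom.toAlgebra
  haveI : IsScalarTower (S.residueField T.s) (Y.residueField T.y) T.tensor :=
    IsScalarTower.of_algebraMap_eq fun _ => rfl
  haveI : IsScalarTower (S.residueField T.s) (X.residueField T.x) T.tensor :=
    IsScalarTower.of_algebraMap_eq fun r =>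
      (RingHom.congr_fun (congrArg CommRingCat.Hom.hom (pushout.condition (f := a) (g := b))) r).symm
  haveI : Algebra.IsPushout (S.residueField T.s) (Y.residueField T.y) (X.residueField T.x) T.tensor :=
    (CommRingCat.isPushout_iff_isPushout.mp (IsPushout.of_hasPushout a b).flip)
  letI : Algebra T.tensor ((pullback f g).residueField t) := φ.hom.toAlgebra
  letI : Algebra (Y.residueField T.y) ((pullback f g).residueField t) :=
    ((pullback.snd f g).residueFieldMap t).hom.toAlgebra
  haveI : IsScalarTower (Y.residueField T.y) T.tensor ((pullback f g).residueField t) :=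
    IsScalarTower.of_algebraMap_eq fun r =>
      (RingHom.congr_fun (congrArg CommRingCat.Hom.hom (pushout.inr_desc _ _
        (residueFieldCongr_inv_residueFieldMap_ofPoint t))) r).symm
  have hfrac := exists_eq_div φ
  refine ⟨?_, fun hmin => ?_⟩
  · rw [← hK]
    exact trdeg_le_of_pushout (k := S.residueField T.s) (L := Y.residueField T.y)
      (K := X.residueField T.x) (C := T.tensor) (E := (pullback f g).residueField t) hfrac
  · rw [← hK]
    refine le_trdeg_of_minimal (k := S.residueField T.s) (K := X.residueField T.x)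
      (L := Y.residueField T.y) (C := T.tensor)
      (E := (pullback f g).residueField t) ?_
    rw [RingHom.ker_eq_comap_bot]
    exact hmin

variable {f g}

theorem resTrdeg_snd_le (t : ↑(pullback f g)) :
    Dual3.resTrdeg (pullback.snd f g) t ≤ Dual3.resTrdeg f (pullback.fst f g t) :=
  (resTrdeg_snd_point f g t).1

theorem carrierEquiv_apply' (t : ↑(pullback f g)) :
    carrierEquiv t = (⟨Triplet.ofPoint t, SpecOfPoint t⟩ : Σ T : Triplet f g, Spec T.tensor) := by
  simp only [carrierEquiv, Equiv.coe_fn_mk]

theorem exists_minimal_point (T : Triplet f g) :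
    ∃ t : ↑(pullback f g), pullback.fst f g t = T.x ∧ pullback.snd f g t = T.y ∧
      (SpecOfPoint t).asIdeal ∈ minimalPrimes (Triplet.ofPoint t).tensor := by
  let p₀ : PrimeSpectrum T.tensor := Classical.arbitrary _
  obtain ⟨q, hq, -⟩ := Ideal.exists_minimalPrimes_le (I := (⊥ : Ideal T.tensor))
    (J := p₀.asIdeal) bot_le
  let p : Spec T.tensor := (⟨q, hq.1.1⟩ : PrimeSpectrum T.tensor)
  have key : ∀ σ : Σ T : Triplet f g, Spec T.tensor, σ = ⟨T, p⟩ →
      σ.2.asIdeal ∈ minimalPrimes σ.1.tensor := by
    rintro σ rfl
    exact hq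
  obtain ⟨t, ht⟩ := carrierEquiv.surjective (⟨T, p⟩ : Σ T : Triplet f g, Spec T.tensor)
  rw [carrierEquiv_apply'] at ht
  refine ⟨t, congrArg (fun σ : Σ T : Triplet f g, Spec T.tensor => σ.1.x) ht,
    congrArg (fun σ : Σ T : Triplet f g, Spec T.tensor => σ.1.y) ht, ?_⟩
  have h2 := key ⟨Triplet.ofPoint t, SpecOfPoint t⟩ ht
  dsimp only at h2
  exact h2

theorem exists_resTrdeg_snd_ge (x : X) (y : Y) (h : f x = g y) :
    ∃ t : ↑(pullback f g), pullback.fst f g t = x ∧ pullback.snd f g t = y ∧
      Dual3.resTrdeg f x ≤ Dual3.resTrdeg (pullback.snd f g) t := by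
  obtain ⟨t, hx, hy, ht⟩ := exists_minimal_point (Triplet.mk' x y h)
  have hx' : pullback.fst f g t = x := hx
  have h1 := (resTrdeg_snd_point f g t).2 ht
  rw [hx'] at h1
  exact ⟨t, hx', hy, h1⟩

end scheme

end FlatDimLib
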