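import Groth.Agent.FlatDimLib.Main
import Groth.Agent.FlatFunLimLib.Main
import Groth.Agent.EquidimLib.Points
import Groth.Agent.AlgSpLib.FibrePts

/-!
# Limit preservation of the dimension condition on non-flat loci
-/

set_option autoImplicit false
set_option backward.isDefEq.respectTransparency false

universe u

open CategoryTheory CategoryTheory.Limits AlgebraicGeometry Opposite TopologicalSpace

noncomputable section

namespace FlatDimLib

open RichLib.LimBC

/-- Transcendence degrees of residue fields do not grow under base change. -/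
theorem resTrdeg_le_of_isPullback {X T X'' Y : Scheme.{u}} {m : X'' ⟶ X} {r : X'' ⟶ Y} {q : X ⟶ T}
    {h : Y ⟶ T} (sq : IsPullback m r q h) (z : X'') :
    Dual3.resTrdeg r z ≤ Dual3.resTrdeg q (m z) := by
  have h2 := resTrdeg_snd_le (f := q) (g := h) (sq.isoPullback.hom z)
  rw [← Scheme.Hom.comp_apply, sq.isoPullback_hom_fst] at h2
  have h3 : Dual3.resTrdeg (sq.isoPullback.hom ≫ pullback.snd q h) z =
      Dual3.resTrdeg (pullback.snd q h) (sq.isoPullback.hom z) := by
    rw [AlgSpLib.resTrdeg_comp, AlgSpLib.resTrdeg_eq_zero_of_lqf sq.isoPullback.hom, add_zero]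
  rw [sq.isoPullback_hom_snd] at h3
  exact h3.trans_le h2

/-- Some point over a given pair of points keeps the transcendence degree. -/
theorem exists_resTrdeg_ge_of_isPullback {X T X'' Y : Scheme.{u}} {m : X'' ⟶ X} {r : X'' ⟶ Y} {q : X ⟶ T}
    {h : Y ⟶ T} (sq : IsPullback m r q h) (x : X) (y : Y) (hxy : q x = h y) :
    ∃ z : X'', m z = x ∧ r z = y ∧ Dual3.resTrdeg q x ≤ Dual3.resTrdeg r z := by
  obtain ⟨t, ht1, ht2, ht⟩ := exists_resTrdeg_snd_ge (f := q) (g := h) x y hxy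
  refine ⟨sq.isoPullback.inv t, ?_, ?_, ?_⟩
  · rw [← Scheme.Hom.comp_apply, sq.isoPullback_inv_fst]; exact ht1
  · rw [← Scheme.Hom.comp_apply, sq.isoPullback_inv_snd]; exact ht2
  · have h3 : Dual3.resTrdeg (sq.isoPullback.inv ≫ r) t = Dual3.resTrdeg r (sq.isoPullback.inv t) := by
      rw [AlgSpLib.resTrdeg_comp, AlgSpLib.resTrdeg_eq_zero_of_lqf sq.isoPullback.inv, add_zero]
    rw [sq.isoPullback_inv_snd] at h3
    exact ht.trans_eq h3

/-- The dimension condition on non-flat loci passes to base changes. -/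
theorem dimFibresLT_of_isPullback {X T X'' Y : Scheme.{u}} {m : X'' ⟶ X} {r : X'' ⟶ Y} {q : X ⟶ T}
    {h : Y ⟶ T} (sq : IsPullback m r q h) (G : X.Modules) [Coh.IsQCoh G] {G' : X''.Modules}
    (e : (Scheme.Modules.pullback m).obj G ≅ G') (n : ℕ)
    (hG : FlatFun.DimFibresLT n q {x | ¬ FlatMod.IsFlatOverAt q G x}) :
    FlatFun.DimFibresLT n r {x | ¬ FlatMod.IsFlatOverAt r G' x} := fun x hx =>
  lt_of_le_of_lt (resTrdeg_le_of_isPullback sq x)
    (hG _ fun h => hx ((RichLib.ModFlat.isFlatOverAt_iso _ e x).1 (isFlatOverAt_baseChange sq G x h)))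

/-- The points lying in a component of dimension at least `n` of a fibre of a closed subset. -/
def fibreDimGE {X T : Scheme.{u}} (q : X ⟶ T) (Z : Set X) (n : ℕ) : Set X :=
  {z | ∃ w ∈ Z, w ⤳ z ∧ q w = q z ∧ (n : Cardinal.{u}) ≤ Dual3.resTrdeg q w}

theorem isClosed_fibreDimGE {X T : Scheme.{u}} (q : X ⟶ T) [LocallyOfFiniteType q] {Z : Set X}
    (hZ : IsClosed Z) (n : ℕ) : IsClosed (fibreDimGE q Z n) := by
  refine isClosed_iff_nhds.mpr fun x hx => by_contra fun hxC => ?_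
  by_cases hxZ : x ∈ Z
  swap
  · obtain ⟨y, hy, w, hwZ, hwy, -⟩ := hx _ (hZ.isOpen_compl.mem_nhds hxZ)
    exact hy (hwy.mem_closed hZ hwZ)
  let I := Scheme.IdealSheafData.vanishingIdeal (X := X) ⟨Z, hZ⟩
  let ι := I.subschemeι
  have hι : Set.range ι.base = Z := by
    rw [show Set.range ι.base = (I.support : Set X) from I.range_subschemeι]
    exact Scheme.IdealSheafData.coe_support_vanishingIdeal _
  have htr : ∀ z, Dual3.resTrdeg (ι ≫ q) z = Dual3.resTrdeg q (ι z) := fun z => by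
    rw [AlgSpLib.resTrdeg_comp, AlgSpLib.resTrdeg_eq_zero_of_lqf ι, add_zero]
  obtain ⟨x', rfl⟩ := hι.ge hxZ
  obtain ⟨e, he⟩ := UOpenLib.exists_fibreDimAt_eq_nat (ι ≫ q) x'
  obtain ⟨z₀, hz₀, hz₀x, -, hd⟩ := UOpenLib.exists_max_fibreDimAt (ι ≫ q) x'
  rw [he, AlgSpLib.fibreClosureDim_eq_resTrdeg, htr] at hd
  have hd' : Cardinal.toENat (Dual3.resTrdeg q (ι z₀)) = (e : ℕ∞) := WithBot.coe_injective hd
  have hlt : e < n := by
    by_contra hle
    refine hxC ⟨ι z₀, hι.le ⟨z₀, rfl⟩, hz₀x.map ι.continuous, hz₀, ?_⟩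
    rw [← Cardinal.natCast_le_toENat_iff, hd']
    exact_mod_cast not_lt.1 hle
  obtain ⟨U, hxU, hU⟩ := EquidimLib.exists_nhd_fibreClosureDim_le (ι ≫ q) x' he
  obtain ⟨V, hV, hVU⟩ := ι.isEmbedding.isInducing.isOpen_iff.mp U.isOpen
  obtain ⟨y, hyV, w, hwZ, hwy, -, hn⟩ := hx V (hV.mem_nhds (by
    have : x' ∈ ι.base ⁻¹' V := hVU ▸ hxU
    exact this))
  obtain ⟨w', rfl⟩ := hι.ge hwZ
  have hw' : w' ∈ (U : Set _) := hVU ▸ hwy.mem_open hV hyV
  have h1 := hU w' hw'
  rw [AlgSpLib.fibreClosureDim_eq_resTrdeg, htr] at h1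
  have h2 : Cardinal.toENat (Dual3.resTrdeg q (ι w')) ≤ (e : ℕ∞) := WithBot.coe_le_coe.1 h1
  have h3 : ((n : ℕ) : ℕ∞) ≤ Cardinal.toENat (Dual3.resTrdeg q (ι w')) := Cardinal.natCast_le_toENat_iff.2 hn
  exact absurd (h3.trans h2) (by exact_mod_cast not_le.2 hlt)

section stages

variable {I : Type u} [SmallCategory I] [IsCofiltered I] {Y X : Scheme.{u}} (B : Sys I Y) (q : X ⟶ Y)

/-- The dimension condition on the limit holds at a stage. -/
theorem exists_stage_dimFibresLT [LocallyOfFinitePresentation q] [QuasiCompact q] [CompactSpace X]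
    (M : X.Modules) [Coh.IsQCoh M] (hM : CohB1.IsFP M) (n : ℕ)
    (h : FlatFun.DimFibresLT n (pullback.snd q B.s) {x | ¬ FlatMod.IsFlatOverAt (pullback.snd q B.s)
      ((Scheme.Modules.pullback (pullback.fst q B.s)).obj M) x}) :
    ∃ i, FlatFun.DimFibresLT n (pullback.snd q (B.t i)) {x | ¬ FlatMod.IsFlatOverAt (pullback.snd q (B.t i))
      ((Scheme.Modules.pullback (pullback.fst q (B.t i))).obj M) x} := by
  let Z : ∀ i, Set ↥(pullback q (B.t i)) := fun i => {x | ¬ FlatMod.IsFlatOverAt (pullback.snd q (B.t i))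
      ((Scheme.Modules.pullback (pullback.fst q (B.t i))).obj M) x}
  have hZ : ∀ i, IsClosed (Z i) := fun i => by
    haveI : Coh.IsQCoh ((Scheme.Modules.pullback (pullback.fst q (B.t i))).obj M) := KFlatLib.isQCoh_pullback _ M
    exact (RichLib.FlatLoci.isOpen_setOf_isFlatOverAt _ _ (RichLib.ModFlat.isFP_pullback _ hM)).isClosed_compl
  have hmono : ∀ {i j : I} (a : i ⟶ j) (y : ↥(pullback q (B.t i))), y ∈ Z i → pbMap B q a y ∈ Z j := by
    intro i j a y hy hfl
    haveI : Coh.IsQCoh ((Scheme.Modules.pullback (pullback.fst q (B.t j))).obj M) := KFlatLib.isQCoh_pullback _ M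
    exact hy ((RichLib.ModFlat.isFlatOverAt_iso _ ((Scheme.Modules.pullbackComp _ _).app M ≪≫
      (Scheme.Modules.pullbackCongr (pbMap_fst B q a)).app M) y).1
        (isFlatOverAt_baseChange (isPullback_map B q a) _ y hfl))
  let O : ∀ i, ((pb B q).D.obj i).Opens := fun i =>
    ⟨(fibreDimGE (pullback.snd q (B.t i)) (Z i) n)ᶜ, (isClosed_fibreDimGE _ (hZ i) n).isOpen_compl⟩
  have hO : ∀ x : (pb B q).c.pt, ∃ i, (pb B q).c.π.app i x ∈ O i := by
    intro (x : ↥(pullback q B.s))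
    let r := pullback.snd q B.s
    let t := r x
    let ι := r.fiberι t
    haveI : LocallyOfFiniteType (r.fiberToSpecResidueField t) := UOpenLib.lft_fiberToSpec r t
    haveI : IsLocallyNoetherian (r.fiber t) :=
      LocallyOfFiniteType.isLocallyNoetherian (r.fiberToSpecResidueField t)
    haveI : QuasiCompact (r.fiberToSpecResidueField t) :=
      inferInstanceAs (QuasiCompact (pullback.snd r ((B.c.pt).fromSpecResidueField t)))
    haveI : CompactSpace (r.fiber t) := QuasiCompact.compactSpace_of_compactSpace (r.fiberToSpecResidueField t)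
    haveI : IsNoetherian (r.fiber t) := {}
    let E : I → Closeds (r.fiber t) := fun i =>
      ⟨(ι ≫ pbπ B q i).base ⁻¹' Z i, (hZ i).preimage (ι ≫ pbπ B q i).continuous⟩
    obtain ⟨i₀⟩ := IsCofiltered.nonempty (C := I)
    obtain ⟨_, ⟨i, rfl⟩, hmin⟩ := (wellFounded_lt (α := Closeds (r.fiber t))).has_min (Set.range E)
      ⟨_, i₀, rfl⟩
    have hE : ∀ z : r.fiber t, pbπ B q i (ι z) ∈ Z i → ¬ FlatMod.IsFlatOverAt r
        ((Scheme.Modules.pullback (pullback.fst q B.s)).obj M) (ι z) := by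
      intro z hz hfl
      obtain ⟨j, hj⟩ := (RichLib.ModFlat.isFlatOverAt_iff_exists_stage B q M hM (ι z)).1 hfl
      let k := IsCofiltered.min i j
      have hle : E k ≤ E i ∧ E k ≤ E j := by
        constructor <;> intro y (hy : pbπ B q k (ι y) ∈ Z k)
        · show pbπ B q i (ι y) ∈ Z i
          rw [← pbπ_map B q (IsCofiltered.minToLeft i j)]
          exact hmono _ _ hy
        · show pbπ B q j (ι y) ∈ Z j
          rw [← pbπ_map B q (IsCofiltered.minToRight i j)]
          exact hmono _ _ hy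
      have hki : E k = E i := hle.1.lt_or_eq.resolve_left (hmin _ ⟨k, rfl⟩)
      exact (hle.2 ((hki.symm ▸ (show z ∈ E i from hz)) : z ∈ E k)) hj
    refine ⟨i, fun ⟨w, hwZ, _, hwq, hn⟩ => ?_⟩
    obtain ⟨z, hzw, hzt, hz⟩ := exists_resTrdeg_ge_of_isPullback (isPullback_cone B q i) w t (hwq.trans (by
      show pullback.snd q (B.t i) (pbπ B q i x) = B.c.π.app i (r x)
      rw [← Scheme.Hom.comp_apply, pbπ_snd, Scheme.Hom.comp_apply]
      rfl))
    obtain ⟨z', rfl⟩ : z ∈ Set.range ι.base := by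
      rw [r.range_fiberι]
      exact hzt
    refine absurd (h _ (hE z' ?_)) (not_lt.2 (hn.trans hz))
    rw [hzw]
    exact hwZ
  obtain ⟨k, hk⟩ := FlatFunLimLib.exists_stage_of_opens (pb B q) O hO
  refine ⟨k, fun y hy => lt_of_not_ge fun hn => ?_⟩
  obtain ⟨i, φ, hi⟩ := hk y
  refine hi ⟨pbMap B q φ y, hmono φ y hy, specializes_rfl, rfl, hn.trans ?_⟩
  exact resTrdeg_le_of_isPullback (isPullback_map B q φ) y

end stages

/-- The functor of flatness in dimensions at least `n` is limit preserving. -/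
theorem isLimitPreserving_dimFibresLT {X S : Scheme.{u}} (f : X ⟶ S) [QuasiCompact f]
    [LocallyOfFinitePresentation f] (F : X.Modules) [Coh.IsQCoh F] (hF : CohB1.IsFP F) (n : ℕ) :
    AlgSp.IsLimitPreserving (FlatFun.genPSp S (fun T => FlatFun.DimFibresLT n (PicF.XTproj f T)
        {x | ¬ FlatMod.IsFlatOverAt (PicF.XTproj f T) (FGA.ET f F T) x})) := by
  refine FlatFunLimLib.isLimitPreserving_genPSp _ (fun T T₀ g h => ?_) fun I _ _ D c hc hD hP => ?_
  · haveI : Coh.IsQCoh (FGA.ET f F T₀) := KFlatLib.isQCoh_pullback _ F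
    exact dimFibresLT_of_isPullback (FlatFunShLib.isPullback_XTmap f g) _ (FGA.ETiso f F g) n h
  obtain ⟨i₀⟩ := IsCofiltered.nonempty (C := I)
  haveI := hD i₀
  haveI := FlatFunLimLib.compactSpace_XT f (D.obj i₀)
  haveI : QuasiCompact (PicF.XTproj f (D.obj i₀)) :=
    inferInstanceAs (QuasiCompact (pullback.snd f (D.obj i₀).hom))
  haveI : LocallyOfFinitePresentation (PicF.XTproj f (D.obj i₀)) :=
    inferInstanceAs (LocallyOfFinitePresentation (pullback.snd f (D.obj i₀).hom))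
  haveI : Coh.IsQCoh (FGA.ET f F (D.obj i₀)) := KFlatLib.isQCoh_pullback _ F
  haveI : Coh.IsQCoh (FGA.ET f F c.pt) := KFlatLib.isQCoh_pullback _ F
  haveI : ∀ (i j : I) (a : i ⟶ j), IsAffineHom ((D ⋙ Over.forget S).map a) := fun i j a => by
    haveI := hD i
    haveI := hD j
    exact isAffineHom_of_isAffine (D.map a).left
  have sq := FlatFunShLib.isPullback_XTmap f (c.π.app i₀)
  have hfwd := dimFibresLT_of_isPullback (m := sq.isoPullback.inv) (q := PicF.XTproj f c.pt) (h := 𝟙 _)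
    (r := pullback.snd (PicF.XTproj f (D.obj i₀)) (c.π.app i₀).left) (IsPullback.of_horiz_isIso ⟨by
      rw [Category.comp_id]
      exact sq.isoPullback_inv_snd⟩) (FGA.ET f F c.pt)
    (G' := (Scheme.Modules.pullback (pullback.fst (PicF.XTproj f (D.obj i₀)) (c.π.app i₀).left)).obj
        (FGA.ET f F (D.obj i₀)))
    ((Scheme.Modules.pullback sq.isoPullback.inv).mapIso (FGA.ETiso f F (c.π.app i₀)).symm ≪≫
      (Scheme.Modules.pullbackComp _ (PicF.XTmap f (c.π.app i₀))).app _ ≪≫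
      (Scheme.Modules.pullbackCongr sq.isoPullback_inv_fst).app _) n hP
  obtain ⟨φ, hφ⟩ := @exists_stage_dimFibresLT _ _ _ _ _
    (ofStage (D ⋙ Over.forget S) ((Over.forget S).mapCone c) hc i₀) (PicF.XTproj f (D.obj i₀)) ‹_› ‹_› ‹_›
    (FGA.ET f F (D.obj i₀)) ‹_› (RichLib.ModFlat.isFP_pullback _ hF) n hfwd
  haveI : Coh.IsQCoh ((Scheme.Modules.pullback (pullback.fst (PicF.XTproj f (D.obj i₀))
      ((ofStage (D ⋙ Over.forget S) ((Over.forget S).mapCone c) hc i₀).t φ))).obj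
      (FGA.ET f F (D.obj i₀))) := KFlatLib.isQCoh_pullback _ _
  have sq' := FlatFunShLib.isPullback_XTmap f (D.map φ.hom)
  refine ⟨φ.left, dimFibresLT_of_isPullback (m := sq'.isoPullback.hom) (h := 𝟙 _)
    (q := pullback.snd (PicF.XTproj f (D.obj i₀)) (D.map φ.hom).left) (IsPullback.of_horiz_isIso ⟨by
      rw [Category.comp_id]
      exact sq'.isoPullback_hom_snd⟩) _ ?_ n hφ⟩
  exact (Scheme.Modules.pullbackComp sq'.isoPullback.hom _).app _ ≪≫
    (Scheme.Modules.pullbackCongr sq'.isoPullback_hom_fst).app _ ≪≫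
    FGA.ETiso f F (D.map φ.hom)

end FlatDimLib
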