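import Groth.Agent.FlatDimLib.Trdeg
import Groth.Agent.FlatFunShLib.Basic
import Groth.Agent.SmallH9.FlatBase
import Groth.Agent.AlgSpLib.TrdegInv

/-!
# The dimension condition on non-flat loci
-/

set_option autoImplicit false

universe u

open CategoryTheory CategoryTheory.Limits AlgebraicGeometry Opposite TensorProduct

noncomputable section

namespace FlatDimLib

open KFlatLib FlatFunShLib

/-- Flatness at a point passes to a base change. -/
theorem isFlatOverAt_baseChange {X T X'' Y : Scheme.{u}} {m : X'' ⟶ X} {r : X'' ⟶ Y} {q : X ⟶ T}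
    {h : Y ⟶ T} (sq : IsPullback m r q h) (G : X.Modules) [Coh.IsQCoh G] (z : X'')
    (hG : FlatMod.IsFlatOverAt q G (m z)) :
    FlatMod.IsFlatOverAt r ((Scheme.Modules.pullback m).obj G) z := by
  haveI : Coh.IsQCoh ((Scheme.Modules.pullback m).obj G) := KFlatLib.isQCoh_pullback m G
  obtain ⟨T₀, hT₀, hzT, -⟩ := exists_isAffineOpen_mem_and_subset (x := h (r z)) (U := ⊤) trivial
  obtain ⟨Y₀, hY₀, hzY, hY₀T⟩ := exists_isAffineOpen_mem_and_subset (x := r z) (U := h ⁻¹ᵁ T₀) hzT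
  have hzX : m z ∈ q ⁻¹ᵁ T₀ := by
    show q (m z) ∈ T₀
    rw [← Scheme.Hom.comp_apply, sq.w]; exact hzT
  obtain ⟨X₀, hX₀, hzX₀, hX₀T⟩ := exists_isAffineOpen_mem_and_subset (x := m z) (U := q ⁻¹ᵁ T₀) hzX
  obtain ⟨hO, hpo⟩ := LCILocusLib.pullback_chart sq hT₀ hY₀ hY₀T hX₀ hX₀T
  let O : X''.Opens := m ⁻¹ᵁ X₀ ⊓ r ⁻¹ᵁ Y₀
  have e₁ : O ≤ m ⁻¹ᵁ X₀ := inf_le_left
  have e₂ : O ≤ r ⁻¹ᵁ Y₀ := inf_le_right
  letI : Algebra Γ(T, T₀) Γ(X, X₀) := (q.appLE T₀ X₀ hX₀T).hom.toAlgebra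
  letI : Algebra Γ(T, T₀) Γ(Y, Y₀) := (h.appLE T₀ Y₀ hY₀T).hom.toAlgebra
  letI : Algebra Γ(X, X₀) Γ(X'', O) := (m.appLE X₀ O e₁).hom.toAlgebra
  letI : Algebra Γ(Y, Y₀) Γ(X'', O) := (r.appLE Y₀ O e₂).hom.toAlgebra
  letI : Algebra Γ(T, T₀) Γ(X'', O) := ((m.appLE X₀ O e₁).hom.comp (q.appLE T₀ X₀ hX₀T).hom).toAlgebra
  haveI : IsScalarTower Γ(T, T₀) Γ(X, X₀) Γ(X'', O) := IsScalarTower.of_algebraMap_eq fun _ => rfl
  haveI : IsScalarTower Γ(T, T₀) Γ(Y, Y₀) Γ(X'', O) := IsScalarTower.of_algebraMap_eq fun x =>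
    RingHom.congr_fun (congrArg CommRingCat.Hom.hom hpo.w) x
  haveI : Algebra.IsPushout Γ(T, T₀) Γ(X, X₀) Γ(Y, Y₀) Γ(X'', O) :=
    CommRingCat.isPushout_iff_isPushout.mp hpo
  letI : Module Γ(T, T₀) Γ(G, X₀) := Module.compHom _ (q.appLE T₀ X₀ hX₀T).hom
  haveI : IsScalarTower Γ(T, T₀) Γ(X, X₀) Γ(G, X₀) := IsScalarTower.of_algebraMap_smul fun _ _ => rfl
  letI : Module Γ(X, X₀) Γ(pb m G, O) := Module.compHom _ (m.appLE X₀ O e₁).hom
  haveI : IsScalarTower Γ(X, X₀) Γ(X'', O) Γ(pb m G, O) := IsScalarTower.of_algebraMap_smul fun _ _ => rfl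
  letI : Module Γ(Y, Y₀) Γ(pb m G, O) := Module.compHom _ (r.appLE Y₀ O e₂).hom
  haveI : IsScalarTower Γ(Y, Y₀) Γ(X'', O) Γ(pb m G, O) := IsScalarTower.of_algebraMap_smul fun _ _ => rfl
  let ψ : Γ(G, X₀) →ₗ[Γ(X, X₀)] Γ(pb m G, O) :=
    { toFun := puSecLE m G e₁, map_add' := map_add _
      map_smul' := fun a g => puSecLE_smul m G e₁ a g }
  have hb := isBaseChange_puSec m G hX₀ hO e₁ (fun _ => rfl) ψ fun _ => rfl
  have hzO : z ∈ O := ⟨hzX₀, hzY⟩
  refine (FlatLib.isFlatOverAt_iff r _ Y₀ hY₀ O hO e₂ hzO rfl).2 ?_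
  exact Groth.Agent.SmallH9.flatAt_baseChange (R := Γ(T, T₀)) ψ hb
    (hX₀.primeIdealOf ⟨m z, hzX₀⟩).asIdeal (hO.primeIdealOf ⟨z, hzO⟩).asIdeal
    (congrArg PrimeSpectrum.asIdeal (IsAffineOpen.comap_primeIdealOf_appLE X₀ hX₀ O hO e₁ hzO)).symm
    ((FlatLib.isFlatOverAt_iff q G T₀ hT₀ X₀ hX₀ hX₀T hzX₀ rfl).1 hG)

section

variable {A : Type u} [CommRing A] {B : Type u} [CommRing B] [Algebra A B]
  (B' : Type u) [CommRing B'] [Algebra B B'] [Algebra A B'] [IsScalarTower A B B']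
  (M : Type u) [AddCommGroup M] [Module A M] [Module B M] [IsScalarTower A B M]

theorem flat_tensor_of_flat [Module.Flat B B'] [Module.Flat A M] : Module.Flat A (B' ⊗[B] M) := by
  refine Module.Flat.iff_lTensor_injective'.mpr fun I => ?_
  let φ := AlgebraTensorModule.lTensor B M I.subtype
  have hφ : Function.Injective (φ.lTensor B') :=
    Module.Flat.lTensor_preserves_injective_linearMap φ
      (Module.Flat.lTensor_preserves_injective_linearMap (M := M) I.subtype Subtype.val_injective)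
  let e₁ := AlgebraTensorModule.assoc A B B B' M I
  let e₂ := AlgebraTensorModule.assoc A B B B' M A
  have hc : ∀ z, e₂ (I.subtype.lTensor (B' ⊗[B] M) z) = φ.lTensor B' (e₁ z) := by
    intro z
    induction z using TensorProduct.induction_on with
    | zero => simp
    | add a b ha hb => simp only [map_add, ha, hb]
    | tmul w i =>
      induction w using TensorProduct.induction_on with
      | zero => simp
      | add a b ha hb => simp only [add_tmul, map_add, ha, hb]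
      | tmul b m => simp [e₁, e₂, φ]
  intro a b hab
  exact e₁.injective (hφ (by rw [← hc, ← hc, hab]))

end

/-- Flatness over the base at a point passes along flat morphisms over the base. -/
theorem isFlatOverAt_comp_flat {X' X T : Scheme.{u}} (m : X' ⟶ X) [Flat m] (q : X ⟶ T) (M : X.Modules) (x : X')
    (h : FlatMod.IsFlatOverAt q M (m x)) :
    FlatMod.IsFlatOverAt (m ≫ q) ((Scheme.Modules.pullback m).obj M) x := by
  let N := (Scheme.Modules.pullback m).obj M
  let e : N.presheaf.stalk x ≃ₗ[X'.presheaf.stalk x]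
      (ModuleCat.extendScalars.{u, u, u} (m.stalkMap x).hom).obj
        ((DerSch.stalkFunctor X (m x)).obj M) :=
    ((KFlatLib.stalkPullIso m x).app M).toLinearEquiv
  letI : Algebra (T.presheaf.stalk (q (m x))) (X.presheaf.stalk (m x)) :=
    (q.stalkMap (m x)).hom.toAlgebra
  letI : Algebra (X.presheaf.stalk (m x)) (X'.presheaf.stalk x) := (m.stalkMap x).hom.toAlgebra
  letI : Algebra (T.presheaf.stalk (q (m x))) (X'.presheaf.stalk x) :=
    ((m.stalkMap x).hom.comp (q.stalkMap (m x)).hom).toAlgebra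
  haveI : IsScalarTower (T.presheaf.stalk (q (m x))) (X.presheaf.stalk (m x)) (X'.presheaf.stalk x) :=
    IsScalarTower.of_algebraMap_eq fun _ => rfl
  letI := FlatMod.moduleStalkOver q M (m x)
  haveI : IsScalarTower (T.presheaf.stalk (q (m x))) (X.presheaf.stalk (m x))
      (M.presheaf.stalk (m x)) := IsScalarTower.of_algebraMap_smul fun _ _ => rfl
  haveI : Module.Flat (X.presheaf.stalk (m x)) (X'.presheaf.stalk x) := Flat.stalkMap m x
  haveI : Module.Flat (T.presheaf.stalk (q (m x))) (M.presheaf.stalk (m x)) := h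
  letI : Module (T.presheaf.stalk (q (m x))) (N.presheaf.stalk x) :=
    FlatMod.moduleStalkOver (m ≫ q) N x
  let e' : N.presheaf.stalk x ≃ₗ[X'.presheaf.stalk x]
      X'.presheaf.stalk x ⊗[X.presheaf.stalk (m x)] M.presheaf.stalk (m x) := e
  let el : N.presheaf.stalk x ≃ₗ[T.presheaf.stalk (q (m x))]
      X'.presheaf.stalk x ⊗[X.presheaf.stalk (m x)] M.presheaf.stalk (m x) :=
    { e'.toAddEquiv with
      map_smul' := fun a n => by
        change e' (((m ≫ q).stalkMap x).hom a • n) = _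
        rw [e'.map_smul, Scheme.Hom.stalkMap_comp m q x]
        exact (IsScalarTower.algebraMap_smul (X'.presheaf.stalk x) a _) }
  haveI := flat_tensor_of_flat (A := T.presheaf.stalk (q (m x))) (B := X.presheaf.stalk (m x))
    (X'.presheaf.stalk x) (M.presheaf.stalk (m x))
  show Module.Flat (T.presheaf.stalk (q (m x))) (N.presheaf.stalk x)
  exact Module.Flat.of_linearEquiv el

variable {X S : Scheme.{u}} (f : X ⟶ S) (F : X.Modules) [Coh.IsQCoh F] (n : ℕ)

theorem isFlatOverAt_XTmap {T T₀ : Over S} (g : T ⟶ T₀) (x' : PicF.XT f T)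
    (h : FlatMod.IsFlatOverAt (PicF.XTproj f T₀) (FGA.ET f F T₀) (PicF.XTmap f g x')) :
    FlatMod.IsFlatOverAt (PicF.XTproj f T) (FGA.ET f F T) x' := by
  haveI : Coh.IsQCoh (FGA.ET f F T₀) := KFlatLib.isQCoh_pullback _ F
  exact (RichLib.ModFlat.isFlatOverAt_iso _ (FGA.ETiso f F g) x').1
    (isFlatOverAt_baseChange (isPullback_XTmap f g) _ x' h)

theorem resTrdeg_fst_eq {T : Over S} (z : PicF.XT f T) :
    Dual3.resTrdeg (PicF.XTproj f T) z ≤ Dual3.resTrdeg f (pullback.fst f T.hom z) :=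
  resTrdeg_snd_le z

/-- The functor of the dimension condition is an fpqc sheaf. -/
theorem isSheaf_dimFibresLT : Presheaf.IsSheaf (QuotSh.J Scheme.fpqcPrecoverage S)
    (FlatFun.genPSp S (fun T => FlatFun.DimFibresLT n (PicF.XTproj f T)
      {x | ¬ FlatMod.IsFlatOverAt (PicF.XTproj f T) (FGA.ET f F T) x})) := by
  refine isSheaf_genPSp _ (fun T T₀ g hP x' hx' => ?_) fun T hloc x hx => ?_
  · have hx : ¬ FlatMod.IsFlatOverAt (PicF.XTproj f T₀) (FGA.ET f F T₀) (PicF.XTmap f g x') :=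
      fun h => hx' (isFlatOverAt_XTmap f F g x' h)
    have h1 : Dual3.resTrdeg (PicF.XTproj f T) x' ≤
        Dual3.resTrdeg (PicF.XTproj f T₀) (PicF.XTmap f g x') := by
      have sq := isPullback_XTmap f g
      have h2 := resTrdeg_snd_le (f := PicF.XTproj f T₀) (g := g.left) (sq.isoPullback.hom x')
      rw [← Scheme.Hom.comp_apply, sq.isoPullback_hom_fst] at h2
      have h3 : Dual3.resTrdeg (sq.isoPullback.hom ≫ pullback.snd (PicF.XTproj f T₀) g.left) x' =
          Dual3.resTrdeg (pullback.snd (PicF.XTproj f T₀) g.left) (sq.isoPullback.hom x') := by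
        rw [AlgSpLib.resTrdeg_comp, AlgSpLib.resTrdeg_eq_zero_of_lqf sq.isoPullback.hom, add_zero]
      rw [sq.isoPullback_hom_snd] at h3
      exact h3.trans_le h2
    exact lt_of_le_of_lt h1 (hP _ hx)
  · obtain ⟨T', g, hg, ⟨t', ht'⟩, hP⟩ := hloc (PicF.XTproj f T x)
    haveI := hg
    haveI := flat_XTmap f g
    have sq := isPullback_XTmap f g
    obtain ⟨z, hz1, -, hz⟩ := exists_resTrdeg_snd_ge (f := PicF.XTproj f T) (g := g.left) x t' ht'.symm
    let x' := sq.isoPullback.inv z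
    have hx' : PicF.XTmap f g x' = x := by
      rw [← Scheme.Hom.comp_apply, sq.isoPullback_inv_fst]
      exact hz1
    have hne : ¬ FlatMod.IsFlatOverAt (PicF.XTproj f T') (FGA.ET f F T') x' := fun h => hx (by
      have := isFlatOverAt_of_pullback sq.w (FGA.ET f F T) x'
        ((RichLib.ModFlat.isFlatOverAt_iso _ (FGA.ETiso f F g) x').2 h)
      rwa [hx'] at this)
    have h3 : Dual3.resTrdeg (sq.isoPullback.inv ≫ PicF.XTproj f T') z =
        Dual3.resTrdeg (PicF.XTproj f T') x' := by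
      rw [AlgSpLib.resTrdeg_comp, AlgSpLib.resTrdeg_eq_zero_of_lqf sq.isoPullback.inv, add_zero]
    rw [sq.isoPullback_inv_snd] at h3
    exact lt_of_le_of_lt (hz.trans_eq h3) (hP _ hne)

theorem dimFibresLT_of_etale {X' : Scheme.{u}} (h : X' ⟶ X) [Etale h] (T : Over S)
    (hT : FlatFun.DimFibresLT n (PicF.XTproj f T)
      {x | ¬ FlatMod.IsFlatOverAt (PicF.XTproj f T) (FGA.ET f F T) x}) :
    FlatFun.DimFibresLT n (PicF.XTproj (h ≫ f) T)
      {x | ¬ FlatMod.IsFlatOverAt (PicF.XTproj (h ≫ f) T)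
        (FGA.ET (h ≫ f) ((Scheme.Modules.pullback h).obj F) T) x} := by
  let m : PicF.XT (h ≫ f) T ⟶ PicF.XT f T :=
    pullback.map (h ≫ f) T.hom f T.hom h (𝟙 _) (𝟙 _) (Category.comp_id _) (by simp)
  have hm1 : m ≫ pullback.fst f T.hom = pullback.fst (h ≫ f) T.hom ≫ h := pullback.lift_fst _ _ _
  have hm2 : m ≫ PicF.XTproj f T = PicF.XTproj (h ≫ f) T :=
    (pullback.lift_snd _ _ _).trans (Category.comp_id _)
  haveI : Etale m := by
    have sq : IsPullback (pullback.fst (h ≫ f) T.hom) m h (pullback.fst f T.hom) := by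
      refine IsPullback.of_bot ?_ hm1.symm (IsPullback.of_hasPullback f T.hom)
      rw [show m ≫ pullback.snd f T.hom = pullback.snd (h ≫ f) T.hom from hm2]
      exact IsPullback.of_hasPullback _ _
    exact MorphismProperty.of_isPullback (P := @Etale) sq inferInstance
  haveI : LocallyQuasiFinite m := WeightLib.locallyQuasiFinite_of_etale m
  intro x hx
  have hne : ¬ FlatMod.IsFlatOverAt (PicF.XTproj f T) (FGA.ET f F T) (m x) := fun hfl => hx (by
    have := isFlatOverAt_comp_flat m (PicF.XTproj f T) (FGA.ET f F T) x hfl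
    rw [hm2] at this
    exact (RichLib.ModFlat.isFlatOverAt_iso _
      ((Scheme.Modules.pullbackComp m (pullback.fst f T.hom)).app F ≪≫
        (Scheme.Modules.pullbackCongr hm1).app F ≪≫
        ((Scheme.Modules.pullbackComp (pullback.fst (h ≫ f) T.hom) h).app F).symm) x).1 this)
  have h3 : Dual3.resTrdeg (m ≫ PicF.XTproj f T) x = Dual3.resTrdeg (PicF.XTproj f T) (m x) := by
    rw [AlgSpLib.resTrdeg_comp, AlgSpLib.resTrdeg_eq_zero_of_lqf m, add_zero]
  rw [hm2] at h3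
  exact lt_of_eq_of_lt h3 (hT _ hne)

end FlatDimLib
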