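import Groth.Agent.FlatInjLib.AssFlat
import Groth.Agent.FlatLib.QStalk
import Groth.Agent.AlgSpLib.FibrePts
import Groth.Agent.QCohLib.QCoh
import Mathlib

/-!
# The non-flat locus in a fibre
-/

set_option autoImplicit false

universe u

open CategoryTheory AlgebraicGeometry TopologicalSpace

noncomputable section

namespace FlatDimLib

variable {X S : Scheme.{u}} (f : X ⟶ S) (F : X.Modules) [Coh.IsQCoh F]

omit [Coh.IsQCoh F] in
theorem mem_basicOpen_iff_primeIdealOf {U : X.Opens} (hU : IsAffineOpen U) (G : Γ(X, U)) {y : X} (hy : y ∈ U) :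
    y ∈ X.basicOpen G ↔ G ∉ (hU.primeIdealOf ⟨y, hy⟩).asIdeal := by
  have h : (hU.primeIdealOf ⟨y, hy⟩ ∈ hU.fromSpec ⁻¹ᵁ X.basicOpen G) ↔ y ∈ X.basicOpen G := by
    show hU.fromSpec (hU.primeIdealOf ⟨y, hy⟩) ∈ X.basicOpen G ↔ _
    rw [hU.fromSpec_primeIdealOf]
  rw [← h, hU.fromSpec_preimage_basicOpen]
  rfl

/-- Flatness over the base passes to generalisations. -/
theorem isFlatOverAt_of_specializes {x y : X} (h : x ⤳ y) (hy : FlatMod.IsFlatOverAt f F y) :
    FlatMod.IsFlatOverAt f F x := by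
  obtain ⟨V, hV, hyV, -⟩ := exists_isAffineOpen_mem_and_subset (x := f y) (U := ⊤) trivial
  obtain ⟨U, hU, hyU, hUV⟩ := exists_isAffineOpen_mem_and_subset (x := y) (U := f ⁻¹ᵁ V) hyV
  have hxU : x ∈ U := h.mem_open U.isOpen hyU
  letI : Algebra Γ(S, V) Γ(X, U) := (f.appLE V U hUV).hom.toAlgebra
  letI : Module Γ(S, V) Γ(F, U) := Module.compHom _ (f.appLE V U hUV).hom
  haveI : IsScalarTower Γ(S, V) Γ(X, U) Γ(F, U) := IsScalarTower.of_algebraMap_smul fun _ _ => rfl
  refine (FlatLib.isFlatOverAt_iff f F V hV U hU hUV hxU rfl).2 ?_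
  exact FlatInjLib.flatAt_of_le ((UOpenLib.primeIdealOf_le_iff hU hxU hyU).2 h)
    ((FlatLib.isFlatOverAt_iff f F V hV U hU hUV hyU rfl).1 hy)

/-- The non-flat locus of a module of finite type meets each fibre in a closed subset of it. -/
theorem exists_isClosed_nonflat_fibre [LocallyOfFiniteType f] (hF : CohB1.IsFT F) (s : S) :
    ∃ C : Set X, IsClosed C ∧ ∀ x, f x = s → (x ∈ C ↔ ¬ FlatMod.IsFlatOverAt f F x) := by
  classical
  have key : ∀ x, f x = s → FlatMod.IsFlatOverAt f F x →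
      ∃ O : X.Opens, x ∈ O ∧ ∀ y ∈ O, f y = s → FlatMod.IsFlatOverAt f F y := by
    intro x hx hfl
    obtain ⟨V, hV, hxV, -⟩ := exists_isAffineOpen_mem_and_subset (x := f x) (U := ⊤) trivial
    obtain ⟨U, hU, hxU, hUV⟩ := exists_isAffineOpen_mem_and_subset (x := x) (U := f ⁻¹ᵁ V) hxV
    letI : Algebra Γ(S, V) Γ(X, U) := (f.appLE V U hUV).hom.toAlgebra
    letI : Module Γ(S, V) Γ(F, U) := Module.compHom _ (f.appLE V U hUV).hom
    haveI : IsScalarTower Γ(S, V) Γ(X, U) Γ(F, U) := IsScalarTower.of_algebraMap_smul fun _ _ => rfl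
    haveI : Algebra.FiniteType Γ(S, V) Γ(X, U) := f.finiteType_appLE hV hU hUV
    haveI : Module.Finite Γ(X, U) Γ(F, U) := QCohLib.finite_of_isFT hF hU
    have hfx := (FlatLib.isFlatOverAt_iff f F V hV U hU hUV hxU rfl).1 hfl
    let p := (hV.primeIdealOf ⟨f x, hxV⟩).asIdeal
    let q := (hU.primeIdealOf ⟨x, hxU⟩).asIdeal
    haveI : IsNoetherianRing (p.Fiber Γ(X, U)) := Algebra.FiniteType.isNoetherianRing p.ResidueField _
    haveI : Module.Finite (p.Fiber Γ(X, U)) (FlatCA.fiberMod p Γ(X, U) Γ(F, U)) := by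
      letI : Algebra Γ(X, U) (p.Fiber Γ(X, U)) := Algebra.TensorProduct.rightAlgebra
      exact Module.Finite.base_change Γ(X, U) (p.Fiber Γ(X, U)) Γ(F, U)
    let A := associatedPrimes (p.Fiber Γ(X, U)) (FlatCA.fiberMod p Γ(X, U) Γ(F, U))
    have hA : A.Finite := associatedPrimes.finite _ _
    have hg : ∀ Q ∈ A, ∃ g : Γ(X, U), g ∉ q ∧ ∀ [Q.IsPrime],
        ¬ FlatCA.FlatAt Γ(S, V) (Q.comap (FibAssLib.incl Γ(X, U) p)) Γ(F, U) →
          g ∈ Q.comap (FibAssLib.incl Γ(X, U) p) := by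
      intro Q hQ
      haveI : Q.IsPrime := hQ.isPrime
      by_cases hle : Q.comap (FibAssLib.incl Γ(X, U) p) ≤ q
      · exact ⟨1, fun h => Ideal.IsPrime.ne_top inferInstance ((Ideal.eq_top_iff_one q).2 h),
          fun hn => absurd (FlatInjLib.flatAt_of_le hle hfx) hn⟩
      · obtain ⟨g, hg, hgq⟩ := SetLike.not_le_iff_exists.1 hle
        exact ⟨g, hgq, fun _ => hg⟩
    choose! g hgq hg using hg
    let G := ∏ Q ∈ hA.toFinset, g Q
    refine ⟨X.basicOpen G, ?_, fun y hy hys => ?_⟩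
    · rw [mem_basicOpen_iff_primeIdealOf hU G hxU]
      intro h
      obtain ⟨Q, hQ, hmem⟩ := (Ideal.IsPrime.prod_mem_iff (p := q)).1 h
      exact hgq Q (hA.mem_toFinset.1 hQ) hmem
    · have hyU : y ∈ U := X.basicOpen_le G hy
      refine (FlatLib.isFlatOverAt_iff f F V hV U hU hUV hyU rfl).2 ?_
      haveI : (hU.primeIdealOf ⟨y, hyU⟩).asIdeal.LiesOver p := ⟨by
        have h := congrArg PrimeSpectrum.asIdeal (IsAffineOpen.comap_primeIdealOf_appLE V hV U hU hUV hyU)
        refine Eq.trans ?_ h.symm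
        show (hV.primeIdealOf ⟨f x, hxV⟩).asIdeal = (hV.primeIdealOf ⟨f y, hUV hyU⟩).asIdeal
        simp only [hys, hx]⟩
      refine FlatInjLib.flatAt_of_ass p _ fun Q hQ hQp hle => by_contra fun hn => ?_
      have hG : G ∈ (hU.primeIdealOf ⟨y, hyU⟩).asIdeal :=
        hle (Ideal.prod_mem _ (hA.mem_toFinset.2 hQ) (hg Q hQ hn))
      have hy' := (mem_basicOpen_iff_primeIdealOf hU G hyU).1 hy
      exact hy' hG
  choose! O hxO hO using key
  refine ⟨(⋃ x ∈ {x | f x = s ∧ FlatMod.IsFlatOverAt f F x}, (O x : Set X))ᶜ,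
    (isOpen_biUnion fun x _ => (O x).isOpen).isClosed_compl, fun x hx => ?_⟩
  refine ⟨fun h hfl => h (Set.mem_biUnion (x := x) ⟨hx, hfl⟩ (hxO x hx hfl)), fun h hx' => ?_⟩
  simp only [Set.mem_iUnion] at hx'
  obtain ⟨z, hz, hxz⟩ := hx'
  exact h (hO z hz.1 hz.2 x hxz hx)

/-- The dimensions of the non-flat loci in the fibres are the transcendence degrees. -/
theorem dim_nonflat_lt_iff [LocallyOfFiniteType f] (hF : CohB1.IsFT F) (n : ℕ) :
    (∀ s : S, topologicalKrullDim {x : X // f x = s ∧ ¬ FlatMod.IsFlatOverAt f F x} < (n : WithBot ℕ∞)) ↔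
      ∀ x : X, ¬ FlatMod.IsFlatOverAt f F x → Dual3.resTrdeg f x < (n : Cardinal.{u}) := by
  refine ⟨fun h x hx => lt_of_not_ge fun hn => ?_, fun h s => lt_of_not_ge fun hn => ?_⟩
  · refine not_le.2 (h (f x)) (le_trans (b := UOpenLib.fibreClosureDim f x) ?_ ?_)
    · rw [AlgSpLib.fibreClosureDim_eq_resTrdeg]
      exact WithBot.coe_le_coe.2 (Cardinal.natCast_le_toENat_iff.2 hn)
    · rw [UOpenLib.fibreClosureDim_eq_inter]
      let r : ↥(closure ({x} : Set X) ∩ f.base ⁻¹' {f.base x}) →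
          {y : X // f y = f x ∧ ¬ FlatMod.IsFlatOverAt f F y} :=
        fun a => ⟨a.1, a.2.2, fun hfl => hx (isFlatOverAt_of_specializes f F
          (specializes_iff_mem_closure.2 a.2.1) hfl)⟩
      exact (Topology.IsInducing.of_comp (f := r) (continuous_subtype_val.subtype_mk _) continuous_subtype_val
        Topology.IsInducing.subtypeVal).topologicalKrullDim_le
  obtain ⟨C, hC, hCiff⟩ := exists_isClosed_nonflat_fibre f F hF s
  obtain ⟨l, hl⟩ := Order.le_krullDim_iff.1 hn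
  let N := {x : X // f x = s ∧ ¬ FlatMod.IsFlatOverAt f F x}
  have hgen : ∀ i, ∃ η : N, η ∈ (l i : Set N) ∧ ∀ t ∈ (l i : Set N), η ⤳ t := by
    intro i
    have hT : IsIrreducible (Subtype.val '' (l i : Set N) : Set X) :=
      (l i).isIrreducible.image _ continuous_subtype_val.continuousOn
    obtain ⟨η, hη⟩ := QuasiSober.sober hT.closure isClosed_closure
    obtain ⟨t, ht⟩ := (l i).isIrreducible.nonempty
    have hsp : ∀ t ∈ (l i : Set N), η ⤳ t.1 := fun t ht => hη.specializes (subset_closure ⟨t, ht, rfl⟩)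
    have hη1 : f η = s := by
      refine (Specializes.antisymm (t.2.1 ▸ (hsp t ht).map f.continuous) ?_).eq
      refine specializes_iff_mem_closure.2 (closure_mono ?_ (image_closure_subset_closure_image f.continuous
        ⟨η, hη.mem, rfl⟩))
      rintro _ ⟨_, ⟨a, -, rfl⟩, rfl⟩
      exact a.2.1
    have hTC : Subtype.val '' (l i : Set N) ⊆ C := by
      rintro _ ⟨a, -, rfl⟩
      exact (hCiff _ a.2.1).2 a.2.2
    have hη2 : η ∈ C := closure_minimal hTC hC hη.mem
    refine ⟨⟨η, hη1, (hCiff _ hη1).1 hη2⟩, ?_, fun t ht => Topology.IsInducing.subtypeVal.specializes_iff.1 (hsp t ht)⟩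
    obtain ⟨D, hD, hDl⟩ := isClosed_induced_iff.1 (l i).isClosed
    have hTD : Subtype.val '' (l i : Set N) ⊆ D := by
      rintro _ ⟨a, ha, rfl⟩
      exact hDl.ge ha
    have : η ∈ D := closure_minimal hTD hD hη.mem
    exact hDl.le this
  choose η hη hsp using hgen
  let c : Fin (l.length + 1) → ↥(closure ({(η (Fin.last _)).1} : Set X) ∩ f.base ⁻¹' {f.base (η (Fin.last _)).1}) :=
    fun i => ⟨(η i.rev).1, ((hsp (Fin.last _) _ (l.monotone (Fin.le_last _) (hη i.rev))).map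
      continuous_subtype_val).mem_closure, ((η i.rev).2.1).trans (η (Fin.last _)).2.1.symm⟩
  have hlt : ∀ {i j : Fin (l.length + 1)}, i < j → η i ≠ η j := fun {i j} hij h => by
    refine not_le_of_gt (l.strictMono hij) ?_
    intro t ht
    exact (h.symm ▸ hsp j t ht : η i ⤳ t).mem_closed (l i).isClosed (hη i)
  have hinj : Function.Injective c := fun i j e => by
    have e' : η i.rev = η j.rev := Subtype.ext (congrArg (fun a => a.1) e)
    by_contra hij
    rcases lt_or_gt_of_ne (fun h => hij (Fin.rev_injective h) : i.rev ≠ j.rev) with h | h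
    · exact hlt h e'
    · exact hlt h e'.symm
  have hd := UOpenLib.le_topologicalKrullDim_of_chain c hinj fun i j hij =>
    Topology.IsInducing.subtypeVal.specializes_iff.1
      ((hsp i.rev _ (l.monotone (Fin.rev_le_rev.2 hij) (hη j.rev))).map continuous_subtype_val)
  rw [← UOpenLib.fibreClosureDim_eq_inter, AlgSpLib.fibreClosureDim_eq_resTrdeg] at hd
  exact absurd (h _ (η (Fin.last _)).2.2)
    (not_lt.2 (Cardinal.natCast_le_toENat_iff.1
      ((le_of_eq (congrArg (fun k : ℕ => (k : ℕ∞)) hl.symm)).trans (WithBot.coe_le_coe.1 hd))))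

end FlatDimLib
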