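import Groth.Agent.FlatDimLib.NonflatFibre
import Groth.Agent.FlatDimLib.Main
import Groth.Agent.FlatInjLib.RelAssBC
import Groth.Agent.GenFibNearLib.AssScheme

/-!
# The dimension condition and relative associated points
-/

set_option autoImplicit false
set_option backward.isDefEq.respectTransparency false

universe u

open CategoryTheory CategoryTheory.Limits AlgebraicGeometry TopologicalSpace

noncomputable section

namespace FlatDimLib

section alg

variable {R S : Type u} [CommRing R] [CommRing S] [Algebra R S] {N : Type u} [AddCommGroup N] [Module S N]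
  [Module R N] [IsScalarTower R S N]

theorem toFiberMod_eq_zero_iff (p : Ideal R) [p.IsPrime] (y : N) :
    FlatCA.toFiberMod p S N y = 0 ↔ GenFibNearLib.ZeroAt p y := by
  have key : ∀ z : N, z ∈ p • (⊤ : Submodule R N) ↔
      z ∈ p.map (algebraMap R S) • (⊤ : Submodule S N) := fun z => by
    exact FlatInjLib.mem_smul_top_iff_map (B := S) p z
  refine ⟨fun h => ?_, fun ⟨r, hr, h⟩ => ?_⟩
  · obtain ⟨t, ht, htz⟩ := FibAssLib.exists_smul_eq_zero_of_β p (z := Submodule.Quotient.mk y) h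
    rw [← Submodule.Quotient.mk_smul, Submodule.Quotient.mk_eq_zero] at htz
    exact ⟨t, ht, (key _).2 htz⟩
  · refine FibAssLib.eq_zero_of_smul p hr ?_
    rw [← map_smul, algebraMap_smul]
    exact FibAssLib.toFiberMod_map_eq_zero p ((key _).1 h)

theorem exists_annAt_eq [Algebra.FiniteType R S] (p : Ideal R) [p.IsPrime] {Q : Ideal (p.Fiber S)}
    (hQ : Q ∈ associatedPrimes (p.Fiber S) (FlatCA.fiberMod p S N)) :
    ∃ m : N, GenFibNearLib.annAt (B := S) p m = Q.comap (FibAssLib.incl S p) := by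
  haveI : IsNoetherianRing (p.Fiber S) := Algebra.FiniteType.isNoetherianRing p.ResidueField _
  obtain ⟨-, x, hx⟩ := isAssociatedPrime_iff.1 hQ
  obtain ⟨t, ht, n, hn⟩ := FibAssLib.exists_smul_eq_toFiber p x
  refine ⟨n, Ideal.ext fun s => ?_⟩
  rw [GenFibNearLib.mem_annAt, ← toFiberMod_eq_zero_iff (S := S), map_smul, ← hn, Ideal.mem_comap, hx,
    Submodule.mem_colon_singleton, Submodule.mem_bot, ← FibAssLib.smul_eq, smul_comm]
  exact ⟨fun h => FibAssLib.eq_zero_of_smul p ht h, fun h => by rw [h, smul_zero]⟩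

end alg

variable {X S : Scheme.{u}} (f : X ⟶ S) [LocallyOfFiniteType f] (F : X.Modules) [Coh.IsQCoh F]

/-- A point of the non-flat locus generalises to an associated point of its fibre in that locus. -/
theorem exists_relAss_nonflat (hF : CohB1.IsFT F) {x : X} (hx : ¬ FlatMod.IsFlatOverAt f F x) :
    ∃ ξ : X, ξ ∈ MoreMor.relAss f F ∧ f ξ = f x ∧ ξ ⤳ x ∧ ¬ FlatMod.IsFlatOverAt f F ξ := by
  obtain ⟨V, hV, hxV, -⟩ := exists_isAffineOpen_mem_and_subset (x := f x) (U := ⊤) trivial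
  obtain ⟨U, hU, hxU, hUV⟩ := exists_isAffineOpen_mem_and_subset (x := x) (U := f ⁻¹ᵁ V) hxV
  letI : Algebra Γ(S, V) Γ(X, U) := (f.appLE V U hUV).hom.toAlgebra
  letI : Module Γ(S, V) Γ(F, U) := Module.compHom _ (f.appLE V U hUV).hom
  haveI : IsScalarTower Γ(S, V) Γ(X, U) Γ(F, U) := IsScalarTower.of_algebraMap_smul fun _ _ => rfl
  haveI : Algebra.FiniteType Γ(S, V) Γ(X, U) := f.finiteType_appLE hV hU hUV
  haveI : Module.Finite Γ(X, U) Γ(F, U) := QCohLib.finite_of_isFT hF hU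
  let p := (hV.primeIdealOf ⟨f x, hxV⟩).asIdeal
  let q := (hU.primeIdealOf ⟨x, hxU⟩).asIdeal
  haveI : q.LiesOver p := ⟨(congrArg PrimeSpectrum.asIdeal
    (IsAffineOpen.comap_primeIdealOf_appLE V hV U hU hUV hxU)).symm⟩
  by_contra hno
  refine hx ((FlatLib.isFlatOverAt_iff f F V hV U hU hUV hxU rfl).2
    (FlatInjLib.flatAt_of_ass p q fun Q hQ hQp hle => by_contra fun hn => hno ?_))
  haveI := hQp
  obtain ⟨m, hm⟩ := exists_annAt_eq p hQ
  haveI := FlatInjLib.comap_incl_liesOver p Q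
  let q' : PrimeSpectrum Γ(X, U) := ⟨Q.comap (FibAssLib.incl Γ(X, U) p), inferInstance⟩
  have hmem : hU.fromSpec q' ∈ U := AssPointLib.fromSpec_mem hU q'
  have hfq : f (hU.fromSpec q') = f x := by
    rw [AssPointLib.apply_fromSpec f hV hU hUV]
    exact (congrArg hV.fromSpec (PrimeSpectrum.ext (Ideal.over_def q'.asIdeal p).symm)).trans
      (hV.fromSpec_primeIdealOf ⟨f x, hxV⟩)
  have h1 : hU.primeIdealOf ⟨hU.fromSpec q', hmem⟩ = q' := AssPointLib.primeIdealOf_fromSpec hU q'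
  have h2 : hV.primeIdealOf ⟨f (hU.fromSpec q'), hUV hmem⟩ = hV.primeIdealOf ⟨f x, hxV⟩ :=
    congrArg hV.primeIdealOf (Subtype.ext hfq)
  refine ⟨hU.fromSpec q', ?_, hfq, ?_, fun hfl => hn ?_⟩
  · refine GenFibNearLib.mem_relAss_of_annAt f F hV hU hUV hmem m ?_
    simp only [h1, h2]
    exact hm
  · rw [← UOpenLib.primeIdealOf_le_iff hU hmem hxU, h1]
    exact hle
  · have h3 := (FlatLib.isFlatOverAt_iff f F V hV U hU hUV hmem rfl).1 hfl
    rw [h1] at h3
    exact h3

theorem fibreClosureDim_le_of_specializes {ξ x : X} (h : ξ ⤳ x) (hf : f ξ = f x) :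
    UOpenLib.fibreClosureDim f x ≤ UOpenLib.fibreClosureDim f ξ := by
  rw [UOpenLib.fibreClosureDim_eq_inter, UOpenLib.fibreClosureDim_eq_inter]
  let r : ↥(closure ({x} : Set X) ∩ f.base ⁻¹' {f.base x}) →
      ↥(closure ({ξ} : Set X) ∩ f.base ⁻¹' {f.base ξ}) :=
    fun a => ⟨a.1, (h.trans (specializes_iff_mem_closure.2 a.2.1)).mem_closure, a.2.2.trans hf.symm⟩
  exact (Topology.IsInducing.of_comp (f := r) (continuous_subtype_val.subtype_mk _) continuous_subtype_val
    Topology.IsInducing.subtypeVal).topologicalKrullDim_le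

theorem resTrdeg_lt_of_specializes {ξ x : X} (h : ξ ⤳ x) (hf : f ξ = f x) {n : ℕ}
    (hξ : Dual3.resTrdeg f ξ < (n : Cardinal.{u})) : Dual3.resTrdeg f x < (n : Cardinal.{u}) := by
  refine lt_of_not_ge fun hn => not_le_of_gt hξ ?_
  have := fibreClosureDim_le_of_specializes f h hf
  rw [AlgSpLib.fibreClosureDim_eq_resTrdeg, AlgSpLib.fibreClosureDim_eq_resTrdeg] at this
  exact Cardinal.natCast_le_toENat_iff.1 ((Cardinal.natCast_le_toENat_iff.2 hn).trans (WithBot.coe_le_coe.1 this))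

theorem dimFibresLT_of_relAss {X' : Scheme.{u}} (h : X' ⟶ X) [Etale h] (hF : CohB1.IsFT F)
    (hAss : MoreMor.relAss f F ⊆ Set.range h.base) (n : ℕ) (T : Over S)
    (hT : FlatFun.DimFibresLT n (PicF.XTproj (h ≫ f) T)
      {x | ¬ FlatMod.IsFlatOverAt (PicF.XTproj (h ≫ f) T)
        (FGA.ET (h ≫ f) ((Scheme.Modules.pullback h).obj F) T) x}) :
    FlatFun.DimFibresLT n (PicF.XTproj f T)
      {x | ¬ FlatMod.IsFlatOverAt (PicF.XTproj f T) (FGA.ET f F T) x} := by
  intro x hx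
  haveI : Coh.IsQCoh (FGA.ET f F T) := KFlatLib.isQCoh_pullback _ F
  haveI : LocallyOfFiniteType (PicF.XTproj f T) := inferInstanceAs (LocallyOfFiniteType (pullback.snd f T.hom))
  obtain ⟨ξ, hξ, hfξ, hsp, hne⟩ :=
    exists_relAss_nonflat (PicF.XTproj f T) (FGA.ET f F T) (ConsLib.isFT_pullback _ F hF) hx
  refine resTrdeg_lt_of_specializes _ hsp hfξ ?_
  have hU : pullback.fst f T.hom ξ ∈ Set.range h.base :=
    (FlatInjLib.relAss_subset_iff f F hF T.hom (PicF.XTproj f T) (pullback.fst f T.hom)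
      ⟨Set.range h.base, h.isOpenMap.isOpen_range⟩ (IsPullback.of_hasPullback f T.hom)
      (PicF.XTproj f T ξ)).1 (fun y hy => hAss hy.1) ⟨hξ, rfl⟩
  obtain ⟨y, hy⟩ := hU
  let m : PicF.XT (h ≫ f) T ⟶ PicF.XT f T :=
    pullback.map (h ≫ f) T.hom f T.hom h (𝟙 _) (𝟙 _) (Category.comp_id _) (by simp)
  have hm1 : m ≫ pullback.fst f T.hom = pullback.fst (h ≫ f) T.hom ≫ h := pullback.lift_fst _ _ _
  have hm2 : m ≫ PicF.XTproj f T = PicF.XTproj (h ≫ f) T :=
    (pullback.lift_snd _ _ _).trans (Category.comp_id _)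
  have sq : IsPullback (pullback.fst (h ≫ f) T.hom) m h (pullback.fst f T.hom) := by
    refine IsPullback.of_bot ?_ hm1.symm (IsPullback.of_hasPullback f T.hom)
    rw [show m ≫ pullback.snd f T.hom = pullback.snd (h ≫ f) T.hom from hm2]
    exact IsPullback.of_hasPullback _ _
  haveI : Etale m := MorphismProperty.of_isPullback (P := @Etale) sq inferInstance
  haveI : LocallyQuasiFinite m := WeightLib.locallyQuasiFinite_of_etale m
  obtain ⟨x', -, hx'⟩ := Scheme.Pullback.exists_preimage_pullback y ξ (f := h) (g := pullback.fst f T.hom) hy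
  let w := sq.isoPullback.inv x'
  have hw : m w = ξ := by
    rw [← Scheme.Hom.comp_apply, sq.isoPullback_inv_snd]; exact hx'
  have hne' : ¬ FlatMod.IsFlatOverAt (PicF.XTproj (h ≫ f) T)
      (FGA.ET (h ≫ f) ((Scheme.Modules.pullback h).obj F) T) w := fun hfl => hne (by
    have e : (Scheme.Modules.pullback m).obj (FGA.ET f F T) ≅
        FGA.ET (h ≫ f) ((Scheme.Modules.pullback h).obj F) T :=
      (Scheme.Modules.pullbackComp m (pullback.fst f T.hom)).app F ≪≫
        (Scheme.Modules.pullbackCongr hm1).app F ≪≫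
        ((Scheme.Modules.pullbackComp (pullback.fst (h ≫ f) T.hom) h).app F).symm
    have := FlatFunShLib.isFlatOverAt_of_pullback (g := 𝟙 T.left) (by rw [Category.comp_id]; exact hm2)
      (FGA.ET f F T) w ((RichLib.ModFlat.isFlatOverAt_iso _ e w).2 hfl)
    rwa [hw] at this)
  have h3 : Dual3.resTrdeg (m ≫ PicF.XTproj f T) w = Dual3.resTrdeg (PicF.XTproj f T) (m w) := by
    rw [AlgSpLib.resTrdeg_comp, AlgSpLib.resTrdeg_eq_zero_of_lqf m, add_zero]
  rw [hm2, hw] at h3
  exact lt_of_eq_of_lt h3.symm (hT w hne')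

end FlatDimLib
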